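import Mathlib
import Cfsg.Prelude.Def_GeometricClasses
import Cfsg.Agent.Lead.S5634BEE2
import Cfsg.Agent.Helper19.S5634CONJMAX

set_option autoImplicit false
set_option linter.unusedSectionVars false
set_option linter.unusedVariables false
set_option linter.deprecated false

/-! # S5637 (`GL_a(q) ⊗ GL_b(q)` is maximal in `SL_{ab}(q)`, `2 ≤ a < b`): definitions (driver helper24)

Vectors are `Fin n → F`; linear functionals are vectors too, through the dot product `φ ⬝ᵥ x`.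
`e : Fin n ≃ Fin a × Fin b` identifies `F^n` with `F^a ⊗ F^b`; `tn e u w` is the pure tensor `u ⊗ w`.
`EE v φ = 1 + v φᵀ` and its calculus come from `Cfsg.Agent.S5634P` (`EE.conj`, `EE.comm_axis`, ...). -/

namespace Cfsg.Agent.S5637P

open Matrix Kronecker Cfsg.Agent.Helper28.SLMax Cfsg.Agent.S5634P
open scoped MatrixGroups

variable {F : Type*} [Field F] {n a b : ℕ} (e : Fin n ≃ Fin a × Fin b)

/-! ### pure tensors -/

/-- the pure tensor `u ⊗ w` in `F^n`, along `e` -/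
def tn (u : Fin a → F) (w : Fin b → F) : Fin n → F := fun k => u (e k).1 * w (e k).2

theorem tn_apply (u : Fin a → F) (w : Fin b → F) (k : Fin n) :
    tn e u w k = u (e k).1 * w (e k).2 := rfl

theorem tn_add_left (u u' : Fin a → F) (w : Fin b → F) :
    tn e (u + u') w = tn e u w + tn e u' w := by
  funext k; simp only [tn_apply, Pi.add_apply]; ring

theorem tn_add_right (u : Fin a → F) (w w' : Fin b → F) :
    tn e u (w + w') = tn e u w + tn e u w' := by
  funext k; simp only [tn_apply, Pi.add_apply]; ring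

theorem tn_sub_left (u u' : Fin a → F) (w : Fin b → F) :
    tn e (u - u') w = tn e u w - tn e u' w := by
  funext k; simp only [tn_apply, Pi.sub_apply]; ring

theorem tn_sub_right (u : Fin a → F) (w w' : Fin b → F) :
    tn e u (w - w') = tn e u w - tn e u w' := by
  funext k; simp only [tn_apply, Pi.sub_apply]; ring

theorem tn_smul_left (c : F) (u : Fin a → F) (w : Fin b → F) :
    tn e (c • u) w = c • tn e u w := by
  funext k; simp only [tn_apply, Pi.smul_apply, smul_eq_mul]; ring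

theorem tn_smul_right (c : F) (u : Fin a → F) (w : Fin b → F) :
    tn e u (c • w) = c • tn e u w := by
  funext k; simp only [tn_apply, Pi.smul_apply, smul_eq_mul]; ring

theorem tn_neg_left (u : Fin a → F) (w : Fin b → F) : tn e (-u) w = -tn e u w := by
  funext k; simp only [tn_apply, Pi.neg_apply]; ring

theorem tn_neg_right (u : Fin a → F) (w : Fin b → F) : tn e u (-w) = -tn e u w := by
  funext k; simp only [tn_apply, Pi.neg_apply]; ring

theorem tn_zero_left (w : Fin b → F) : tn e (0 : Fin a → F) w = 0 := by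
  funext k; simp [tn_apply]

theorem tn_zero_right (u : Fin a → F) : tn e u (0 : Fin b → F) = 0 := by
  funext k; simp [tn_apply]

theorem tn_sum_left {α : Type*} (s : Finset α) (u : α → Fin a → F) (w : Fin b → F) :
    tn e (∑ i ∈ s, u i) w = ∑ i ∈ s, tn e (u i) w := by
  classical
  induction s using Finset.induction_on with
  | empty => simp [tn_zero_left]
  | insert i s hi ih => rw [Finset.sum_insert hi, Finset.sum_insert hi, tn_add_left, ih]

theorem tn_sum_right {α : Type*} (s : Finset α) (u : Fin a → F) (w : α → Fin b → F) :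
    tn e u (∑ i ∈ s, w i) = ∑ i ∈ s, tn e u (w i) := by
  classical
  induction s using Finset.induction_on with
  | empty => simp [tn_zero_right]
  | insert i s hi ih => rw [Finset.sum_insert hi, Finset.sum_insert hi, tn_add_right, ih]

/-- sums over `Fin n` are double sums over `Fin a × Fin b` -/
theorem sum_eq_sum_prod {N : Type*} [AddCommMonoid N] (f : Fin a × Fin b → N) :
    ∑ k : Fin n, f (e k) = ∑ i : Fin a, ∑ j : Fin b, f (i, j) := by
  rw [Equiv.sum_comp e f, Fintype.sum_prod_type]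

/-- `(μ ⊗ ψ)(u ⊗ w) = μ(u) ψ(w)` -/
theorem tn_dot (μ u : Fin a → F) (ψ w : Fin b → F) :
    tn e μ ψ ⬝ᵥ tn e u w = (μ ⬝ᵥ u) * (ψ ⬝ᵥ w) := by
  unfold dotProduct
  simp only [tn_apply]
  rw [sum_eq_sum_prod e (fun p => μ p.1 * ψ p.2 * (u p.1 * w p.2)), Finset.sum_mul_sum]
  apply Finset.sum_congr rfl
  intro i _
  apply Finset.sum_congr rfl
  intro j _
  ring

theorem tn_single (i : Fin a) (j : Fin b) (c d : F) :
    tn e (Pi.single i c) (Pi.single j d) = Pi.single (e.symm (i, j)) (c * d) := by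
  funext k
  rw [tn_apply]
  by_cases h : k = e.symm (i, j)
  · subst h
    simp
  · rw [Pi.single_eq_of_ne h]
    have h' : ¬ ((e k).1 = i ∧ (e k).2 = j) := by
      rintro ⟨h1, h2⟩
      apply h
      rw [Equiv.eq_symm_apply]
      exact Prod.ext h1 h2
    by_cases h1 : (e k).1 = i
    · have h2 : (e k).2 ≠ j := fun h2 => h' ⟨h1, h2⟩
      rw [Pi.single_eq_of_ne h2, mul_zero]
    · rw [Pi.single_eq_of_ne h1, zero_mul]

/-- the `j`-th column of `x`, seen as an `a × b` matrix -/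
def col (x : Fin n → F) (j : Fin b) : Fin a → F := fun i => x (e.symm (i, j))

theorem col_apply (x : Fin n → F) (j : Fin b) (i : Fin a) : col e x j i = x (e.symm (i, j)) := rfl

theorem col_add (x y : Fin n → F) (j : Fin b) : col e (x + y) j = col e x j + col e y j := rfl

theorem col_smul (c : F) (x : Fin n → F) (j : Fin b) : col e (c • x) j = c • col e x j := rfl

theorem col_tn (u : Fin a → F) (w : Fin b → F) (j : Fin b) : col e (tn e u w) j = w j • u := by
  funext i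
  simp [col_apply, tn_apply, mul_comm]

/-- every vector is the sum of its columns: `x = Σ_j (col_j x) ⊗ e_j` -/
theorem eq_sum_tn_col (x : Fin n → F) :
    x = ∑ j : Fin b, tn e (col e x j) (Pi.single j 1) := by
  funext k
  rw [Finset.sum_apply]
  simp only [tn_apply, col_apply]
  rw [Finset.sum_eq_single (e k).2]
  · simp
  · intro j _ hj
    rw [Pi.single_eq_of_ne hj.symm, mul_zero]
  · intro h; exact absurd (Finset.mem_univ _) h

/-- linear maps are determined by their values on the pure tensors -/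
theorem ext_tn {N : Type*} [AddCommMonoid N] [Module F N] {f g : (Fin n → F) →ₗ[F] N}
    (H : ∀ (u : Fin a → F) (w : Fin b → F), f (tn e u w) = g (tn e u w)) : f = g := by
  apply LinearMap.ext
  intro x
  rw [eq_sum_tn_col e x, map_sum, map_sum]
  exact Finset.sum_congr rfl (fun j _ => H _ _)

/-- matrices are determined by their action on the pure tensors -/
theorem mat_ext_tn {g h : Matrix (Fin n) (Fin n) F}
    (H : ∀ (u : Fin a → F) (w : Fin b → F), g *ᵥ tn e u w = h *ᵥ tn e u w) : g = h := by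
  have : Matrix.toLin' g = Matrix.toLin' h := by
    apply ext_tn e
    intro u w
    rw [Matrix.toLin'_apply, Matrix.toLin'_apply, H]
  exact Matrix.toLin'.injective this

/-- elements of `GL` are determined by their action on the pure tensors -/
theorem gl_ext_tn {g h : GL (Fin n) F}
    (H : ∀ (u : Fin a → F) (w : Fin b → F),
      (g : Matrix (Fin n) (Fin n) F) *ᵥ tn e u w = (h : Matrix (Fin n) (Fin n) F) *ᵥ tn e u w) :
    g = h := Units.ext (mat_ext_tn e H)

theorem tn_eq_zero_iff (u : Fin a → F) (w : Fin b → F) : tn e u w = 0 ↔ u = 0 ∨ w = 0 := by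
  constructor
  · intro h
    by_contra hne
    rw [not_or] at hne
    obtain ⟨i, hi⟩ := Function.ne_iff.mp hne.1
    obtain ⟨j, hj⟩ := Function.ne_iff.mp hne.2
    have := congrFun h (e.symm (i, j))
    rw [tn_apply, Equiv.apply_symm_apply] at this
    exact (mul_ne_zero hi hj) this
  · rintro (h | h)
    · rw [h, tn_zero_left]
    · rw [h, tn_zero_right]

theorem tn_left_injective {w : Fin b → F} (hw : w ≠ 0) :
    Function.Injective (fun u : Fin a → F => tn e u w) := by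
  intro u u' h
  have h1 : tn e (u - u') w = 0 := by
    rw [tn_sub_left]; exact sub_eq_zero.mpr h
  rcases (tn_eq_zero_iff e _ _).mp h1 with h2 | h2
  · exact sub_eq_zero.mp h2
  · exact absurd h2 hw

theorem tn_right_injective {u : Fin a → F} (hu : u ≠ 0) :
    Function.Injective (fun w : Fin b → F => tn e u w) := by
  intro w w' h
  have h1 : tn e u (w - w') = 0 := by
    rw [tn_sub_right]; exact sub_eq_zero.mpr h
  rcases (tn_eq_zero_iff e _ _).mp h1 with h2 | h2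
  · exact absurd h2 hu
  · exact sub_eq_zero.mp h2

/-! ### Kronecker products -/

/-- the Kronecker product `A ⊗ B` as a matrix on `Fin n`, along `e` -/
def kr (A : Matrix (Fin a) (Fin a) F) (B : Matrix (Fin b) (Fin b) F) : Matrix (Fin n) (Fin n) F :=
  (A ⊗ₖ B).submatrix e e

theorem kr_apply (A : Matrix (Fin a) (Fin a) F) (B : Matrix (Fin b) (Fin b) F) (k l : Fin n) :
    kr e A B k l = A (e k).1 (e l).1 * B (e k).2 (e l).2 := rfl

theorem kr_mulVec_tn (A : Matrix (Fin a) (Fin a) F) (B : Matrix (Fin b) (Fin b) F)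
    (u : Fin a → F) (w : Fin b → F) : kr e A B *ᵥ tn e u w = tn e (A *ᵥ u) (B *ᵥ w) := by
  funext k
  simp only [Matrix.mulVec, dotProduct, tn_apply, kr_apply]
  rw [sum_eq_sum_prod e (fun p => A (e k).1 p.1 * B (e k).2 p.2 * (u p.1 * w p.2)),
    Finset.sum_mul_sum]
  apply Finset.sum_congr rfl
  intro i _
  apply Finset.sum_congr rfl
  intro j _
  ring

theorem tn_vecMul_kr (A : Matrix (Fin a) (Fin a) F) (B : Matrix (Fin b) (Fin b) F)
    (μ : Fin a → F) (ψ : Fin b → F) : tn e μ ψ ᵥ* kr e A B = tn e (μ ᵥ* A) (ψ ᵥ* B) := by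
  funext k
  simp only [Matrix.vecMul, dotProduct, tn_apply, kr_apply]
  rw [sum_eq_sum_prod e (fun p => μ p.1 * ψ p.2 * (A p.1 (e k).1 * B p.2 (e k).2)),
    Finset.sum_mul_sum]
  apply Finset.sum_congr rfl
  intro i _
  apply Finset.sum_congr rfl
  intro j _
  ring

theorem kr_mul (A A' : Matrix (Fin a) (Fin a) F) (B B' : Matrix (Fin b) (Fin b) F) :
    kr e A B * kr e A' B' = kr e (A * A') (B * B') := by
  unfold kr
  rw [Matrix.submatrix_mul_equiv, ← Matrix.mul_kronecker_mul]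

theorem kr_one : kr e (1 : Matrix (Fin a) (Fin a) F) (1 : Matrix (Fin b) (Fin b) F) = 1 := by
  unfold kr
  rw [Matrix.one_kronecker_one, Matrix.submatrix_one_equiv]

theorem kr_add_left (A A' : Matrix (Fin a) (Fin a) F) (B : Matrix (Fin b) (Fin b) F) :
    kr e (A + A') B = kr e A B + kr e A' B := by
  ext k l; simp only [kr_apply, Matrix.add_apply]; ring

theorem kr_add_right (A : Matrix (Fin a) (Fin a) F) (B B' : Matrix (Fin b) (Fin b) F) :
    kr e A (B + B') = kr e A B + kr e A B' := by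
  ext k l; simp only [kr_apply, Matrix.add_apply]; ring

theorem kr_smul_left (c : F) (A : Matrix (Fin a) (Fin a) F) (B : Matrix (Fin b) (Fin b) F) :
    kr e (c • A) B = c • kr e A B := by
  ext k l; simp only [kr_apply, Matrix.smul_apply, smul_eq_mul]; ring

theorem kr_smul_right (c : F) (A : Matrix (Fin a) (Fin a) F) (B : Matrix (Fin b) (Fin b) F) :
    kr e A (c • B) = c • kr e A B := by
  ext k l; simp only [kr_apply, Matrix.smul_apply, smul_eq_mul]; ring

theorem kr_neg_left (A : Matrix (Fin a) (Fin a) F) (B : Matrix (Fin b) (Fin b) F) :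
    kr e (-A) B = -kr e A B := by
  ext k l; simp only [kr_apply, Matrix.neg_apply]; ring

theorem kr_neg_right (A : Matrix (Fin a) (Fin a) F) (B : Matrix (Fin b) (Fin b) F) :
    kr e A (-B) = -kr e A B := by
  ext k l; simp only [kr_apply, Matrix.neg_apply]; ring

theorem kr_zero_left (B : Matrix (Fin b) (Fin b) F) :
    kr e (0 : Matrix (Fin a) (Fin a) F) B = 0 := by
  ext k l; simp [kr_apply]

theorem kr_zero_right (A : Matrix (Fin a) (Fin a) F) :
    kr e A (0 : Matrix (Fin b) (Fin b) F) = 0 := by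
  ext k l; simp [kr_apply]

theorem kr_det (A : Matrix (Fin a) (Fin a) F) (B : Matrix (Fin b) (Fin b) F) :
    (kr e A B).det = A.det ^ b * B.det ^ a := by
  unfold kr
  rw [Matrix.det_submatrix_equiv_self, Matrix.det_kronecker, Fintype.card_fin, Fintype.card_fin]

/-- `(u μᵀ) ⊗ (w ψᵀ) = (u ⊗ w)(μ ⊗ ψ)ᵀ` -/
theorem kr_vecMulVec (u μ : Fin a → F) (w ψ : Fin b → F) :
    kr e (vecMulVec u μ) (vecMulVec w ψ) = vecMulVec (tn e u w) (tn e μ ψ) := by
  ext k l
  simp only [kr_apply, Matrix.vecMulVec_apply, tn_apply]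
  ring

/-- the Kronecker product of two invertible matrices, as an element of `GL (Fin n) F` -/
def krg (A : GL (Fin a) F) (B : GL (Fin b) F) : GL (Fin n) F :=
  ⟨kr e (A : Matrix (Fin a) (Fin a) F) (B : Matrix (Fin b) (Fin b) F),
    kr e ((A⁻¹ : GL (Fin a) F) : Matrix (Fin a) (Fin a) F) ((B⁻¹ : GL (Fin b) F) : Matrix (Fin b) (Fin b) F),
    by rw [kr_mul, ← Units.val_mul, ← Units.val_mul, mul_inv_cancel, mul_inv_cancel, Units.val_one,
      Units.val_one, kr_one],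
    by rw [kr_mul, ← Units.val_mul, ← Units.val_mul, inv_mul_cancel, inv_mul_cancel, Units.val_one,
      Units.val_one, kr_one]⟩

theorem krg_val (A : GL (Fin a) F) (B : GL (Fin b) F) :
    ((krg e A B : GL (Fin n) F) : Matrix (Fin n) (Fin n) F) =
      kr e (A : Matrix (Fin a) (Fin a) F) (B : Matrix (Fin b) (Fin b) F) := rfl

theorem krg_mul (A A' : GL (Fin a) F) (B B' : GL (Fin b) F) :
    krg e A B * krg e A' B' = krg e (A * A') (B * B') := by
  apply Units.ext
  rw [Units.val_mul, krg_val, krg_val, krg_val, kr_mul, Units.val_mul, Units.val_mul]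

theorem krg_one : krg e (1 : GL (Fin a) F) (1 : GL (Fin b) F) = 1 := by
  apply Units.ext
  rw [krg_val, Units.val_one, Units.val_one, kr_one, Units.val_one]

theorem krg_inv (A : GL (Fin a) F) (B : GL (Fin b) F) : (krg e A B)⁻¹ = krg e A⁻¹ B⁻¹ := by
  apply inv_eq_of_mul_eq_one_right
  rw [krg_mul, mul_inv_cancel, mul_inv_cancel, krg_one]

theorem krg_mulVec_tn (A : GL (Fin a) F) (B : GL (Fin b) F) (u : Fin a → F) (w : Fin b → F) :
    ((krg e A B : GL (Fin n) F) : Matrix (Fin n) (Fin n) F) *ᵥ tn e u w =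
      tn e ((A : Matrix (Fin a) (Fin a) F) *ᵥ u) ((B : Matrix (Fin b) (Fin b) F) *ᵥ w) := by
  rw [krg_val, kr_mulVec_tn]

theorem krg_det (A : GL (Fin a) F) (B : GL (Fin b) F) :
    ((krg e A B : GL (Fin n) F) : Matrix (Fin n) (Fin n) F).det =
      (A : Matrix (Fin a) (Fin a) F).det ^ b * (B : Matrix (Fin b) (Fin b) F).det ^ a := by
  rw [krg_val, kr_det]

theorem krg_mem_SL (A : GL (Fin a) F) (B : GL (Fin b) F)
    (h : (A : Matrix (Fin a) (Fin a) F).det ^ b * (B : Matrix (Fin b) (Fin b) F).det ^ a = 1) :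
    krg e A B ∈ Cfsg.Geo.specialLinear (Fin n) F := by
  rw [mem_SL_iff, krg_det, h]

/-- the Kronecker subgroup `GL_a ⊗ GL_b` of `GL (Fin n) F`, in standard position along `e` -/
def Kr : Subgroup (GL (Fin n) F) where
  carrier := {g | ∃ (A : GL (Fin a) F) (B : GL (Fin b) F), g = krg e A B}
  mul_mem' := by
    rintro _ _ ⟨A, B, rfl⟩ ⟨A', B', rfl⟩
    exact ⟨A * A', B * B', krg_mul e A A' B B'⟩
  one_mem' := ⟨1, 1, (krg_one e).symm⟩
  inv_mem' := by
    rintro _ ⟨A, B, rfl⟩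
    exact ⟨A⁻¹, B⁻¹, krg_inv e A B⟩

theorem mem_Kr {g : GL (Fin n) F} :
    g ∈ Kr e ↔ ∃ (A : GL (Fin a) F) (B : GL (Fin b) F), g = krg e A B := Iff.rfl

theorem krg_mem_Kr (A : GL (Fin a) F) (B : GL (Fin b) F) : krg e A B ∈ Kr e := ⟨A, B, rfl⟩

/-- the tensor product subgroup of the statement is the conjugate by `P` of `Kr e` -/
theorem mem_tensor_iff (P g : GL (Fin n) F) :
    g ∈ Cfsg.Geo.tensorProductSubgroup a b e P ↔ P⁻¹ * g * P ∈ Kr e := by
  unfold Cfsg.Geo.tensorProductSubgroup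
  constructor
  · rintro ⟨r, ⟨k, ⟨A, B, hk⟩, rfl⟩, rfl⟩
    refine ⟨A, B, ?_⟩
    show P⁻¹ * (P * (Cfsg.Geo.glReindex e.symm k) * P⁻¹) * P = _
    have : P⁻¹ * (P * (Cfsg.Geo.glReindex e.symm k) * P⁻¹) * P = Cfsg.Geo.glReindex e.symm k := by
      group
    rw [this]
    apply Units.ext
    show (k : Matrix (Fin a × Fin b) (Fin a × Fin b) F).submatrix e e = _
    rw [hk]
    rfl
  · rintro ⟨A, B, h⟩
    have hk1 : ((A : Matrix (Fin a) (Fin a) F) ⊗ₖ (B : Matrix (Fin b) (Fin b) F)) *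
        (((A⁻¹ : GL (Fin a) F) : Matrix (Fin a) (Fin a) F) ⊗ₖ
          ((B⁻¹ : GL (Fin b) F) : Matrix (Fin b) (Fin b) F)) = 1 := by
      rw [← Matrix.mul_kronecker_mul, ← Units.val_mul, ← Units.val_mul, mul_inv_cancel,
        mul_inv_cancel, Units.val_one, Units.val_one, Matrix.one_kronecker_one]
    have hk2 : (((A⁻¹ : GL (Fin a) F) : Matrix (Fin a) (Fin a) F) ⊗ₖ
          ((B⁻¹ : GL (Fin b) F) : Matrix (Fin b) (Fin b) F)) *
        ((A : Matrix (Fin a) (Fin a) F) ⊗ₖ (B : Matrix (Fin b) (Fin b) F)) = 1 := by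
      rw [← Matrix.mul_kronecker_mul, ← Units.val_mul, ← Units.val_mul, inv_mul_cancel,
        inv_mul_cancel, Units.val_one, Units.val_one, Matrix.one_kronecker_one]
    let k : GL (Fin a × Fin b) F := ⟨_, _, hk1, hk2⟩
    refine ⟨Cfsg.Geo.glReindex e.symm k, ⟨k, ⟨A, B, rfl⟩, rfl⟩, ?_⟩
    show P * (Cfsg.Geo.glReindex e.symm k) * P⁻¹ = g
    have hk : Cfsg.Geo.glReindex e.symm k = krg e A B := by
      apply Units.ext
      rfl
    rw [hk, ← h]
    group

/-- **REDUCE**: it is enough to prove maximality in standard position -/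
theorem REDUCE [Fintype F] (P : GL (Fin n) F)
    (hmax : Cfsg.Geo.IsMaximalIn (Cfsg.Geo.specialLinear (Fin n) F)
      (Kr e ⊓ Cfsg.Geo.specialLinear (Fin n) F)) :
    Cfsg.Geo.IsMaximalIn (Cfsg.Geo.specialLinear (Fin n) F)
      (Cfsg.Geo.tensorProductSubgroup a b e P ⊓ Cfsg.Geo.specialLinear (Fin n) F) :=
  Cfsg.Agent.MonoP.CONJMAX.isMaximalIn P (Kr e) _ (mem_tensor_iff e P) hmax

/-! ### the maps `c_ψ : V → U` and `j_w : U → V` -/

/-- `c_ψ : V → U`, `u ⊗ w ↦ ψ(w) u` (contraction of the second factor with `ψ`) -/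
def cps (ψ : Fin b → F) : (Fin n → F) →ₗ[F] (Fin a → F) where
  toFun x := fun i => ∑ j : Fin b, x (e.symm (i, j)) * ψ j
  map_add' x y := by
    funext i
    simp only [Pi.add_apply, add_mul, Finset.sum_add_distrib]
  map_smul' c x := by
    funext i
    simp only [Pi.smul_apply, smul_eq_mul, RingHom.id_apply, Finset.mul_sum, mul_assoc]

theorem cps_apply (ψ : Fin b → F) (x : Fin n → F) (i : Fin a) :
    cps e ψ x i = ∑ j : Fin b, x (e.symm (i, j)) * ψ j := rfl

theorem cps_eq_sum_col (ψ : Fin b → F) (x : Fin n → F) :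
    cps e ψ x = ∑ j : Fin b, ψ j • col e x j := by
  funext i
  rw [cps_apply, Finset.sum_apply]
  apply Finset.sum_congr rfl
  intro j _
  rw [Pi.smul_apply, col_apply, smul_eq_mul, mul_comm]

theorem cps_tn (ψ : Fin b → F) (u : Fin a → F) (w : Fin b → F) :
    cps e ψ (tn e u w) = (ψ ⬝ᵥ w) • u := by
  funext i
  rw [cps_apply, Pi.smul_apply, smul_eq_mul, dotProduct, Finset.sum_mul]
  apply Finset.sum_congr rfl
  intro j _
  rw [tn_apply, Equiv.apply_symm_apply]
  ring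

theorem cps_single (j : Fin b) (x : Fin n → F) : cps e (Pi.single j 1) x = col e x j := by
  rw [cps_eq_sum_col, Finset.sum_eq_single j]
  · simp
  · intro j' _ hj'
    rw [Pi.single_eq_of_ne hj', zero_smul]
  · intro h; exact absurd (Finset.mem_univ _) h

theorem cps_add (ψ ψ' : Fin b → F) (x : Fin n → F) :
    cps e (ψ + ψ') x = cps e ψ x + cps e ψ' x := by
  funext i
  simp only [cps_apply, Pi.add_apply, mul_add, Finset.sum_add_distrib]

theorem cps_smul (c : F) (ψ : Fin b → F) (x : Fin n → F) :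
    cps e (c • ψ) x = c • cps e ψ x := by
  funext i
  simp only [cps_apply, Pi.smul_apply, smul_eq_mul, Finset.mul_sum]
  apply Finset.sum_congr rfl
  intro j _
  ring

theorem cps_zero (x : Fin n → F) : cps e (0 : Fin b → F) x = 0 := by
  funext i
  simp [cps_apply]

theorem cps_neg (ψ : Fin b → F) (x : Fin n → F) : cps e (-ψ) x = -cps e ψ x := by
  funext i
  simp [cps_apply]

/-- `μ(c_ψ x) = (μ ⊗ ψ)(x)` -/
theorem dot_cps (μ : Fin a → F) (ψ : Fin b → F) (x : Fin n → F) :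
    μ ⬝ᵥ cps e ψ x = tn e μ ψ ⬝ᵥ x := by
  conv_rhs => rw [eq_sum_tn_col e x]
  rw [dotProduct_sum, cps_eq_sum_col, dotProduct_sum]
  apply Finset.sum_congr rfl
  intro j _
  rw [tn_dot, dotProduct_smul, dotProduct_single, mul_one, smul_eq_mul, mul_comm]

/-- if `c_ψ x = 0` for all `ψ` then `x = 0` -/
theorem eq_zero_of_cps (x : Fin n → F) (h : ∀ ψ : Fin b → F, cps e ψ x = 0) : x = 0 := by
  rw [eq_sum_tn_col e x]
  apply Finset.sum_eq_zero
  intro j _
  rw [← cps_single, h, tn_zero_left]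

/-- `j_w : U → V`, `u ↦ u ⊗ w` -/
def jw (w : Fin b → F) : (Fin a → F) →ₗ[F] (Fin n → F) where
  toFun u := tn e u w
  map_add' u u' := tn_add_left e u u' w
  map_smul' c u := tn_smul_left e c u w

theorem jw_apply (w : Fin b → F) (u : Fin a → F) : jw e w u = tn e u w := rfl

theorem jw_injective {w : Fin b → F} (hw : w ≠ 0) : Function.Injective (jw e w) :=
  tn_left_injective e hw

/-- the subspace `V_w = U ⊗ w` -/
def Vw (w : Fin b → F) : Submodule F (Fin n → F) := LinearMap.range (jw e w)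

theorem mem_Vw {w : Fin b → F} {x : Fin n → F} : x ∈ Vw e w ↔ ∃ u : Fin a → F, x = tn e u w := by
  unfold Vw
  rw [LinearMap.mem_range]
  constructor
  · rintro ⟨u, rfl⟩; exact ⟨u, rfl⟩
  · rintro ⟨u, rfl⟩; exact ⟨u, rfl⟩

theorem tn_mem_Vw (u : Fin a → F) (w : Fin b → F) : tn e u w ∈ Vw e w := (mem_Vw e).mpr ⟨u, rfl⟩

theorem finrank_Vw {w : Fin b → F} (hw : w ≠ 0) : Module.finrank F (Vw e w) = a := by
  unfold Vw
  rw [LinearMap.finrank_range_of_inj (jw_injective e hw), Module.finrank_fin_fun]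

theorem Vw_smul {c : F} (hc : c ≠ 0) (w : Fin b → F) : Vw e (c • w) = Vw e w := by
  ext x
  rw [mem_Vw, mem_Vw]
  constructor
  · rintro ⟨u, rfl⟩
    exact ⟨c • u, by rw [tn_smul_right, tn_smul_left]⟩
  · rintro ⟨u, rfl⟩
    exact ⟨c⁻¹ • u, by rw [tn_smul_right, tn_smul_left, smul_smul, mul_inv_cancel₀ hc, one_smul]⟩

/-- `c_ψ` kills `V_w` when `ψ(w) = 0` -/
theorem cps_of_mem_Vw {w ψ : Fin b → F} (h : ψ ⬝ᵥ w = 0) {x : Fin n → F} (hx : x ∈ Vw e w) :
    cps e ψ x = 0 := by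
  obtain ⟨u, rfl⟩ := (mem_Vw e).mp hx
  rw [cps_tn, h, zero_smul]

/-! ### the elements `1 + A ⊗ (w ψᵀ)` -/

/-- the matrix `1 + A ⊗ (w ψᵀ)`: `x ↦ x + (A (c_ψ x)) ⊗ w` -/
def GM (A : Matrix (Fin a) (Fin a) F) (w ψ : Fin b → F) : Matrix (Fin n) (Fin n) F :=
  1 + kr e A (vecMulVec w ψ)

theorem vecMulVec_mulVec' {m : ℕ} (w ψ x : Fin m → F) : vecMulVec w ψ *ᵥ x = (ψ ⬝ᵥ x) • w := by
  funext i
  simp only [Matrix.mulVec, dotProduct, Matrix.vecMulVec_apply, Pi.smul_apply, smul_eq_mul,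
    Finset.sum_mul]
  apply Finset.sum_congr rfl
  intro j _
  ring

theorem GM_mulVec_tn (A : Matrix (Fin a) (Fin a) F) (w ψ : Fin b → F) (u : Fin a → F)
    (w' : Fin b → F) :
    GM e A w ψ *ᵥ tn e u w' = tn e u w' + (ψ ⬝ᵥ w') • tn e (A *ᵥ u) w := by
  rw [GM, Matrix.add_mulVec, Matrix.one_mulVec, kr_mulVec_tn, vecMulVec_mulVec', tn_smul_right]

theorem GM_mulVec (A : Matrix (Fin a) (Fin a) F) (w ψ : Fin b → F) (x : Fin n → F) :
    GM e A w ψ *ᵥ x = x + tn e (A *ᵥ cps e ψ x) w := by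
  have key : Matrix.toLin' (GM e A w ψ) =
      LinearMap.id + (jw e w).comp ((Matrix.toLin' A).comp (cps e ψ)) := by
    apply ext_tn e
    intro u w'
    rw [Matrix.toLin'_apply, GM_mulVec_tn, LinearMap.add_apply, LinearMap.id_apply,
      LinearMap.comp_apply, LinearMap.comp_apply, Matrix.toLin'_apply, jw_apply, cps_tn,
      Matrix.mulVec_smul, tn_smul_left]
  have := LinearMap.congr_fun key x
  rw [Matrix.toLin'_apply, LinearMap.add_apply, LinearMap.id_apply, LinearMap.comp_apply,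
    LinearMap.comp_apply, Matrix.toLin'_apply, jw_apply] at this
  exact this

theorem vecMulVec_mul_vecMulVec' {m : ℕ} (w ψ w' ψ' : Fin m → F) :
    vecMulVec w ψ * vecMulVec w' ψ' = (ψ ⬝ᵥ w') • vecMulVec w ψ' := by
  ext i j
  simp only [Matrix.mul_apply, Matrix.vecMulVec_apply, Matrix.smul_apply, smul_eq_mul, dotProduct,
    Finset.sum_mul]
  apply Finset.sum_congr rfl
  intro k _
  ring

theorem GM_mul (A A' : Matrix (Fin a) (Fin a) F) {w ψ : Fin b → F} (h : ψ ⬝ᵥ w = 0) :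
    GM e A w ψ * GM e A' w ψ = GM e (A + A') w ψ := by
  unfold GM
  rw [mul_add, add_mul, add_mul, one_mul, one_mul, mul_one, kr_mul, vecMulVec_mul_vecMulVec', h,
    zero_smul, kr_zero_right, add_zero, kr_add_left]
  abel

theorem GM_zero (w ψ : Fin b → F) : GM e (0 : Matrix (Fin a) (Fin a) F) w ψ = 1 := by
  rw [GM, kr_zero_left, add_zero]

/-- `1 + A ⊗ (w ψᵀ)` as an element of `GL` (`1` when `ψ(w) ≠ 0`) -/
noncomputable def GG (A : Matrix (Fin a) (Fin a) F) (w ψ : Fin b → F) : GL (Fin n) F :=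
  haveI := Classical.propDecidable (ψ ⬝ᵥ w = 0)
  if h : ψ ⬝ᵥ w = 0 then
    ⟨GM e A w ψ, GM e (-A) w ψ, by rw [GM_mul e _ _ h, add_neg_cancel, GM_zero],
      by rw [GM_mul e _ _ h, neg_add_cancel, GM_zero]⟩
  else 1

theorem GG_val (A : Matrix (Fin a) (Fin a) F) {w ψ : Fin b → F} (h : ψ ⬝ᵥ w = 0) :
    ((GG e A w ψ : GL (Fin n) F) : Matrix (Fin n) (Fin n) F) = GM e A w ψ := by
  rw [GG, dif_pos h]

theorem GG_mulVec (A : Matrix (Fin a) (Fin a) F) {w ψ : Fin b → F} (h : ψ ⬝ᵥ w = 0)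
    (x : Fin n → F) :
    ((GG e A w ψ : GL (Fin n) F) : Matrix (Fin n) (Fin n) F) *ᵥ x = x + tn e (A *ᵥ cps e ψ x) w := by
  rw [GG_val e A h, GM_mulVec]

theorem GG_mulVec_tn (A : Matrix (Fin a) (Fin a) F) {w ψ : Fin b → F} (h : ψ ⬝ᵥ w = 0)
    (u : Fin a → F) (w' : Fin b → F) :
    ((GG e A w ψ : GL (Fin n) F) : Matrix (Fin n) (Fin n) F) *ᵥ tn e u w' =
      tn e u w' + (ψ ⬝ᵥ w') • tn e (A *ᵥ u) w := by
  rw [GG_val e A h, GM_mulVec_tn]

theorem GG_mul (A A' : Matrix (Fin a) (Fin a) F) {w ψ : Fin b → F} (h : ψ ⬝ᵥ w = 0) :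
    GG e A w ψ * GG e A' w ψ = GG e (A + A') w ψ := by
  apply Units.ext
  rw [Units.val_mul, GG_val e _ h, GG_val e _ h, GG_val e _ h, GM_mul e _ _ h]

theorem GG_zero (w ψ : Fin b → F) : GG e (0 : Matrix (Fin a) (Fin a) F) w ψ = 1 := by
  by_cases h : ψ ⬝ᵥ w = 0
  · apply Units.ext
    rw [GG_val e _ h, GM_zero, Units.val_one]
  · rw [GG, dif_neg h]

theorem GG_inv (A : Matrix (Fin a) (Fin a) F) {w ψ : Fin b → F} (h : ψ ⬝ᵥ w = 0) :
    (GG e A w ψ)⁻¹ = GG e (-A) w ψ := by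
  apply inv_eq_of_mul_eq_one_right
  rw [GG_mul e _ _ h, add_neg_cancel, GG_zero]

/-- `1 + (u μᵀ) ⊗ (w ψᵀ)` is the transvection `1 + (u ⊗ w)(μ ⊗ ψ)ᵀ` -/
theorem GG_vecMulVec (u μ : Fin a → F) {w ψ : Fin b → F} (h : ψ ⬝ᵥ w = 0) :
    GG e (vecMulVec u μ) w ψ = EE (tn e u w) (tn e μ ψ) := by
  have h0 : tn e μ ψ ⬝ᵥ tn e u w = 0 := by rw [tn_dot, h, mul_zero]
  apply Units.ext
  rw [GG_val e _ h, EE_val0 h0, GM, kr_vecMulVec, E]

/-- the root element `x_{w,ψ} = 1 ⊗ (1 + w ψᵀ)`: `x ↦ x + (c_ψ x) ⊗ w` -/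
noncomputable def XR (w ψ : Fin b → F) : GL (Fin n) F := GG e (1 : Matrix (Fin a) (Fin a) F) w ψ

theorem XR_mulVec {w ψ : Fin b → F} (h : ψ ⬝ᵥ w = 0) (x : Fin n → F) :
    ((XR e w ψ : GL (Fin n) F) : Matrix (Fin n) (Fin n) F) *ᵥ x = x + tn e (cps e ψ x) w := by
  rw [XR, GG_mulVec e _ h, Matrix.one_mulVec]

theorem XR_mulVec_tn {w ψ : Fin b → F} (h : ψ ⬝ᵥ w = 0) (u : Fin a → F) (w' : Fin b → F) :
    ((XR e w ψ : GL (Fin n) F) : Matrix (Fin n) (Fin n) F) *ᵥ tn e u w' =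
      tn e u (w' + (ψ ⬝ᵥ w') • w) := by
  rw [XR, GG_mulVec_tn e _ h, Matrix.one_mulVec, tn_add_right, tn_smul_right]

/-- the root element is the Kronecker product `1 ⊗ (1 + w ψᵀ)` -/
theorem XR_eq_krg {w ψ : Fin b → F} (h : ψ ⬝ᵥ w = 0) : XR e w ψ = krg e 1 (EE w ψ) := by
  apply gl_ext_tn e
  intro u w'
  rw [XR_mulVec_tn e h, krg_mulVec_tn, Units.val_one, Matrix.one_mulVec, EE_mulVec0 h]

theorem XR_mem_Kr {w ψ : Fin b → F} (h : ψ ⬝ᵥ w = 0) : XR e w ψ ∈ Kr e := by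
  rw [XR_eq_krg e h]
  exact krg_mem_Kr e _ _

theorem XR_mem_SL {w ψ : Fin b → F} (h : ψ ⬝ᵥ w = 0) :
    XR e w ψ ∈ Cfsg.Geo.specialLinear (Fin n) F := by
  rw [XR_eq_krg e h]
  apply krg_mem_SL
  rw [Units.val_one, Matrix.det_one, one_pow, one_mul, EE_val0 h, E_det, h, add_zero, one_pow]

/-- the stabiliser of the tensor decomposition in `SL_n(F)`, in standard position -/
abbrev HS : Subgroup (GL (Fin n) F) := Kr e ⊓ Cfsg.Geo.specialLinear (Fin n) F

theorem XR_mem_HS {w ψ : Fin b → F} (h : ψ ⬝ᵥ w = 0) : XR e w ψ ∈ HS e :=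
  ⟨XR_mem_Kr e h, XR_mem_SL e h⟩

/-- `M` contains a doubly pure transvection `1 + (u ⊗ w)(μ ⊗ ψ)ᵀ`, `μ(u) = 0 = ψ(w)` -/
def DP (M : Subgroup (GL (Fin n) F)) : Prop :=
  ∃ (u μ : Fin a → F) (w ψ : Fin b → F), u ≠ 0 ∧ μ ≠ 0 ∧ w ≠ 0 ∧ ψ ≠ 0 ∧ μ ⬝ᵥ u = 0 ∧ ψ ⬝ᵥ w = 0 ∧
    EE (tn e u w) (tn e μ ψ) ∈ M

/-- the image of a subspace under an element of `GL` -/
def gmap (g : GL (Fin n) F) (S : Submodule F (Fin n → F)) : Submodule F (Fin n → F) :=
  S.map (Matrix.toLin' (g : Matrix (Fin n) (Fin n) F))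

theorem mem_gmap {g : GL (Fin n) F} {S : Submodule F (Fin n → F)} {y : Fin n → F} :
    y ∈ gmap g S ↔ ∃ x ∈ S, (g : Matrix (Fin n) (Fin n) F) *ᵥ x = y := by
  unfold gmap
  rw [Submodule.mem_map]
  simp only [Matrix.toLin'_apply]

theorem mulVec_mem_gmap {g : GL (Fin n) F} {S : Submodule F (Fin n → F)} {x : Fin n → F}
    (hx : x ∈ S) : (g : Matrix (Fin n) (Fin n) F) *ᵥ x ∈ gmap g S := mem_gmap.mpr ⟨x, hx, rfl⟩

theorem gmap_mul (g h : GL (Fin n) F) (S : Submodule F (Fin n → F)) :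
    gmap (g * h) S = gmap g (gmap h S) := by
  unfold gmap
  rw [Units.val_mul, Matrix.toLin'_mul, Submodule.map_comp]

theorem gmap_one (S : Submodule F (Fin n → F)) : gmap (1 : GL (Fin n) F) S = S := by
  unfold gmap
  rw [Units.val_one, Matrix.toLin'_one, Submodule.map_id]

theorem finrank_gmap (g : GL (Fin n) F) (S : Submodule F (Fin n → F)) :
    Module.finrank F (gmap g S) = Module.finrank F S := by
  unfold gmap
  have hinj : Function.Injective (Matrix.toLin' (g : Matrix (Fin n) (Fin n) F)) := by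
    intro x y hxy
    rw [Matrix.toLin'_apply, Matrix.toLin'_apply] at hxy
    have := congrArg (fun z => ((g⁻¹ : GL (Fin n) F) : Matrix (Fin n) (Fin n) F) *ᵥ z) hxy
    simpa only [Matrix.mulVec_mulVec, ← Units.val_mul, inv_mul_cancel, Units.val_one,
      Matrix.one_mulVec] using this
  exact (Submodule.equivMapOfInjective _ hinj S).finrank_eq.symm

/-! ### conjugation by Kronecker products -/

theorem cps_kr (A : Matrix (Fin a) (Fin a) F) (B : Matrix (Fin b) (Fin b) F) (φ : Fin b → F)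
    (x : Fin n → F) : cps e φ (kr e A B *ᵥ x) = A *ᵥ cps e (φ ᵥ* B) x := by
  have key : (cps e φ).comp (Matrix.toLin' (kr e A B)) =
      (Matrix.toLin' A).comp (cps e (φ ᵥ* B)) := by
    apply ext_tn e
    intro u w
    rw [LinearMap.comp_apply, LinearMap.comp_apply, Matrix.toLin'_apply, Matrix.toLin'_apply,
      kr_mulVec_tn, cps_tn, cps_tn, Matrix.mulVec_smul, Matrix.dotProduct_mulVec]
  have := LinearMap.congr_fun key x
  rw [LinearMap.comp_apply, LinearMap.comp_apply, Matrix.toLin'_apply, Matrix.toLin'_apply] at this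
  exact this

theorem dact_krg_tn (P : GL (Fin a) F) (Q : GL (Fin b) F) (μ : Fin a → F) (ψ : Fin b → F) :
    dact (krg e P Q) (tn e μ ψ) = tn e (dact P μ) (dact Q ψ) := by
  unfold dact
  rw [krg_inv, krg_val, tn_vecMul_kr]

/-- `(P ⊗ Q)(1 + A ⊗ w ψᵀ)(P ⊗ Q)⁻¹ = 1 + (P A P⁻¹) ⊗ (Q w)(ψ Q⁻¹)ᵀ` -/
theorem GG_conj (P : GL (Fin a) F) (Q : GL (Fin b) F) (A : Matrix (Fin a) (Fin a) F)
    (w ψ : Fin b → F) :
    krg e P Q * GG e A w ψ * (krg e P Q)⁻¹ =
      GG e ((P : Matrix (Fin a) (Fin a) F) * A * ((P⁻¹ : GL (Fin a) F) : Matrix (Fin a) (Fin a) F))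
        ((Q : Matrix (Fin b) (Fin b) F) *ᵥ w) (dact Q ψ) := by
  have e0 : dact Q ψ ⬝ᵥ ((Q : Matrix (Fin b) (Fin b) F) *ᵥ w) = ψ ⬝ᵥ w := dact_dot_mulVec Q ψ w
  by_cases h : ψ ⬝ᵥ w = 0
  · have h' : dact Q ψ ⬝ᵥ ((Q : Matrix (Fin b) (Fin b) F) *ᵥ w) = 0 := by rw [e0]; exact h
    apply gl_ext_tn e
    intro u w'
    rw [EE.mul_mulVec, EE.mul_mulVec, krg_inv, krg_mulVec_tn, GG_mulVec_tn e _ h, Matrix.mulVec_add,
      Matrix.mulVec_smul, krg_mulVec_tn, krg_mulVec_tn, GG_mulVec_tn e _ h', dact_dot]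
    simp only [Matrix.mulVec_mulVec, ← Units.val_mul, mul_inv_cancel, Units.val_one,
      Matrix.one_mulVec, Matrix.mul_assoc]
  · have h' : ¬ (dact Q ψ ⬝ᵥ ((Q : Matrix (Fin b) (Fin b) F) *ᵥ w) = 0) := by rw [e0]; exact h
    have e1 : GG e A w ψ = 1 := by rw [GG, dif_neg h]
    have e2 : GG e ((P : Matrix (Fin a) (Fin a) F) * A *
        ((P⁻¹ : GL (Fin a) F) : Matrix (Fin a) (Fin a) F))
        ((Q : Matrix (Fin b) (Fin b) F) *ᵥ w) (dact Q ψ) = 1 := by rw [GG, dif_neg h']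
    rw [e1, e2, mul_one, mul_inv_cancel]

theorem GG_smul_left (c : F) (A : Matrix (Fin a) (Fin a) F) (w ψ : Fin b → F) :
    GG e (c • A) w ψ = GG e A (c • w) ψ := by
  by_cases hc : c = 0
  · subst hc
    rw [zero_smul, zero_smul, GG_zero]
    have h0 : ψ ⬝ᵥ (0 : Fin b → F) = 0 := dotProduct_zero ψ
    apply Units.ext
    rw [GG_val e A h0, Units.val_one, GM, Matrix.zero_vecMulVec, kr_zero_right, add_zero]
  by_cases h : ψ ⬝ᵥ w = 0
  · have h' : ψ ⬝ᵥ (c • w) = 0 := by rw [dotProduct_smul, h, smul_zero]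
    apply Units.ext
    rw [GG_val e _ h, GG_val e _ h', GM, GM, Matrix.smul_vecMulVec, kr_smul_left, kr_smul_right]
  · have h' : ¬ (ψ ⬝ᵥ (c • w) = 0) := by
      rw [dotProduct_smul, smul_eq_mul]
      exact mul_ne_zero hc h
    rw [GG, dif_neg h, GG, dif_neg h']

theorem GG_smul_right (c : F) (A : Matrix (Fin a) (Fin a) F) (w ψ : Fin b → F) :
    GG e (c • A) w ψ = GG e A w (c • ψ) := by
  by_cases hc : c = 0
  · subst hc
    rw [zero_smul, zero_smul, GG_zero]
    have h0 : (0 : Fin b → F) ⬝ᵥ w = 0 := zero_dotProduct w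
    apply Units.ext
    rw [GG_val e A h0, Units.val_one, GM, Matrix.vecMulVec_zero, kr_zero_right, add_zero]
  by_cases h : ψ ⬝ᵥ w = 0
  · have h' : (c • ψ) ⬝ᵥ w = 0 := by rw [smul_dotProduct, h, smul_zero]
    apply Units.ext
    rw [GG_val e _ h, GG_val e _ h', GM, GM, Matrix.vecMulVec_smul, kr_smul_left, kr_smul_right]
  · have h' : ¬ ((c • ψ) ⬝ᵥ w = 0) := by
      rw [smul_dotProduct, smul_eq_mul]
      exact mul_ne_zero hc h
    rw [GG, dif_neg h, GG, dif_neg h']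

/-- `(P ⊗ Q) T(u ⊗ w, μ ⊗ ψ) (P ⊗ Q)⁻¹ = T(Pu ⊗ Qw, μP⁻¹ ⊗ ψQ⁻¹)` -/
theorem EE_conj_krg (P : GL (Fin a) F) (Q : GL (Fin b) F) (u μ : Fin a → F) (w ψ : Fin b → F) :
    krg e P Q * EE (tn e u w) (tn e μ ψ) * (krg e P Q)⁻¹ =
      EE (tn e ((P : Matrix (Fin a) (Fin a) F) *ᵥ u) ((Q : Matrix (Fin b) (Fin b) F) *ᵥ w))
        (tn e (dact P μ) (dact Q ψ)) := by
  rw [EE.conj, krg_mulVec_tn, dact_krg_tn]

/-! ### unipotent elements along `V_w` -/

/-- `im (g - 1) ⊆ V_w ⊆ ker (g - 1)` -/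
def UniAt (w : Fin b → F) (g : GL (Fin n) F) : Prop :=
  (∀ x : Fin n → F, (g : Matrix (Fin n) (Fin n) F) *ᵥ x - x ∈ Vw e w) ∧
    (∀ x ∈ Vw e w, (g : Matrix (Fin n) (Fin n) F) *ᵥ x = x)

theorem UniAt_XR {w ψ : Fin b → F} (h : ψ ⬝ᵥ w = 0) : UniAt e w (XR e w ψ) := by
  constructor
  · intro x
    rw [XR_mulVec e h, add_sub_cancel_left]
    exact tn_mem_Vw e _ _
  · intro x hx
    rw [XR_mulVec e h, cps_of_mem_Vw e h hx, tn_zero_left, add_zero]

theorem det_one_add_of_sq_zero {ι : Type*} [Fintype ι] [DecidableEq ι]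
    (N : Matrix ι ι F) (h : N * N = 0) : (1 + N).det = 1 := by
  have hnil : IsNilpotent (-N) := ⟨2, by rw [pow_two, neg_mul_neg, h]⟩
  have h1 := Matrix.isNilpotent_charpoly_sub_pow_of_isNilpotent hnil
  have h2 : (-N).charpoly = Polynomial.X ^ Fintype.card ι := sub_eq_zero.mp h1.eq_zero
  have h3 := Matrix.eval_charpoly (-N) 1
  rw [h2, Polynomial.eval_pow, Polynomial.eval_X, one_pow] at h3
  rw [h3]
  congr 1
  simp

/-- **UNIDET**: an element with `im (g - 1) ⊆ V_w ⊆ ker (g - 1)` has determinant one -/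
theorem UniAt.mem_SL {w : Fin b → F} {g : GL (Fin n) F} (hg : UniAt e w g) :
    g ∈ Cfsg.Geo.specialLinear (Fin n) F := by
  rw [mem_SL_iff]
  have hN : ((g : Matrix (Fin n) (Fin n) F) - 1) * ((g : Matrix (Fin n) (Fin n) F) - 1) = 0 := by
    have : Matrix.toLin' (((g : Matrix (Fin n) (Fin n) F) - 1) *
        ((g : Matrix (Fin n) (Fin n) F) - 1)) = 0 := by
      apply LinearMap.ext
      intro x
      rw [Matrix.toLin'_apply, ← Matrix.mulVec_mulVec, LinearMap.zero_apply]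
      have h1 : ((g : Matrix (Fin n) (Fin n) F) - 1) *ᵥ x ∈ Vw e w := by
        rw [Matrix.sub_mulVec, Matrix.one_mulVec]
        exact hg.1 x
      rw [Matrix.sub_mulVec, Matrix.one_mulVec, hg.2 _ h1, sub_self]
    exact Matrix.toLin'.injective (by rw [this, map_zero])
  have := det_one_add_of_sq_zero _ hN
  rwa [add_sub_cancel] at this

theorem krg_mem_HS (A : GL (Fin a) F) (B : GL (Fin b) F)
    (h : (A : Matrix (Fin a) (Fin a) F).det ^ b * (B : Matrix (Fin b) (Fin b) F).det ^ a = 1) :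
    krg e A B ∈ HS e := ⟨krg_mem_Kr e A B, krg_mem_SL e A B h⟩

theorem krg_one_left_mem_HS (B : GL (Fin b) F) (h : (B : Matrix (Fin b) (Fin b) F).det = 1) :
    krg e 1 B ∈ HS e := by
  apply krg_mem_HS
  rw [Units.val_one, Matrix.det_one, one_pow, h, one_pow, one_mul]

theorem krg_one_right_mem_HS (A : GL (Fin a) F) (h : (A : Matrix (Fin a) (Fin a) F).det = 1) :
    krg e A 1 ∈ HS e := by
  apply krg_mem_HS
  rw [Units.val_one, Matrix.det_one, one_pow, h, one_pow, one_mul]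

end Cfsg.Agent.S5637P
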