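import Cfsg.Agent.Helper24.S5637.Defs
import Cfsg.Agent.Helper14.S5637GENSL
import Cfsg.Agent.Helper14.S5637PROPER
import Cfsg.Agent.Helper16.S5637TRANSPAIR2
import Cfsg.Agent.Helper17.S5637ALG3
import Cfsg.Agent.Helper17.S5637ALGAPPLY
import Cfsg.Agent.Helper17.S5637CLASSIFB
import Cfsg.Agent.Helper18.S5637ISOCOMM
import Cfsg.Agent.Helper18.S5637STARLIN
import Cfsg.Agent.Helper20.S5637PASS1
import Cfsg.Agent.Helper20.S5637PASS2
import Cfsg.Agent.Helper21.S5637EXT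
import Cfsg.Agent.Helper21.S5637LIB1
import Cfsg.Agent.Helper24.S5637DPALL
import Cfsg.Agent.Helper24.S5637TAUMAT
import Cfsg.Agent.Helper24.S5637THETA
import Cfsg.Agent.Helper26.S5637TRANSPAIR3
import Cfsg.Agent.Helper26.S5637TRANSVEC
import Cfsg.Agent.Helper6.S5637UNICONJ
import Cfsg.Agent.Helper6.S5637XRNE
import Cfsg.Agent.Helper6.S5637YSUB
import Cfsg.Agent.Helper8.S5637ALGQ
import Cfsg.Agent.Helper8.S5637CLASSIFA
import Cfsg.Agent.Helper8.S5637EXPERP2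
import Cfsg.Agent.Helper8.S5637NONSC
import Cfsg.Agent.Lead.S5637GMAPKR
import Cfsg.Agent.Lead.S5637STARALPHA
import Cfsg.Agent.Lead.S5637STEPA
import Cfsg.Agent.Lead.S5637TAUREL

set_option autoImplicit false
set_option linter.unusedSectionVars false
set_option linter.unusedVariables false

/-! # S5637: assembly (driver helper24) -/

namespace Cfsg.Agent.S5637P

open Matrix Kronecker Cfsg.Agent.Helper28.SLMax Cfsg.Agent.S5634P
open scoped MatrixGroups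

variable {F : Type*} [Field F] {n a b : ℕ} (e : Fin n ≃ Fin a × Fin b)

/-- ALG: a conjugation invariant subspace of matrices with a non-scalar member contains a rank one
nilpotent -/
theorem ALG [Fintype F] (ha : 2 ≤ a) (hex : ¬ (a = 2 ∧ Fintype.card F = 2))
    (𝔄 : Submodule F (Matrix (Fin a) (Fin a) F))
    (hconj : ∀ A ∈ 𝔄, ∀ u μ : Fin a → F, μ ⬝ᵥ u = 0 → E u μ * A * E (-u) μ ∈ 𝔄)
    (A : Matrix (Fin a) (Fin a) F) (hA : A ∈ 𝔄)
    (hns : ¬ ∃ c : F, A = c • (1 : Matrix (Fin a) (Fin a) F)) :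
    ∃ u μ : Fin a → F, u ≠ 0 ∧ μ ≠ 0 ∧ μ ⬝ᵥ u = 0 ∧ vecMulVec u μ ∈ 𝔄 := by
  obtain ⟨u, hu⟩ := NONSC A hns
  rcases Nat.lt_or_ge a 3 with h3 | h3
  · have ha2 : a = 2 := by omega
    have hq : 3 ≤ Fintype.card F := by
      have h2 : 2 ≤ Fintype.card F := by
        have := Fintype.one_lt_card (α := F)
        omega
      by_contra hlt
      exact hex ⟨ha2, by omega⟩
    exact ALGQ hq 𝔄 hconj A hA u hu
  · exact ALG3 h3 𝔄 hconj A hA u hu

/-- ISOLATE: a unipotent element along `V_w` in `M`, not a root element, yields `1 + A ⊗ w ψᵀ ∈ M` with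
`A` not scalar -/
theorem ISOLATE (ha : 1 ≤ a) (hb : 3 ≤ b) (M : Subgroup (GL (Fin n) F)) (hM : HS e ≤ M)
    {w : Fin b → F} (hw : w ≠ 0) {g : GL (Fin n) F} (hg : g ∈ M) (hu : UniAt e w g)
    (hnx : ¬ ∃ ψ : Fin b → F, ψ ⬝ᵥ w = 0 ∧ g = XR e w ψ) :
    ∃ (A : Matrix (Fin a) (Fin a) F) (ψ : Fin b → F), ψ ≠ 0 ∧ ψ ⬝ᵥ w = 0 ∧
      (¬ ∃ c : F, A = c • (1 : Matrix (Fin a) (Fin a) F)) ∧ GG e A w ψ ∈ M := by
  obtain ⟨θ, hθ1, hθ2⟩ := THETA e hw hu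
  have hj : ∃ j : Fin b, ¬ ∃ c : F, ∀ u : Fin a → F, θ (tn e u (Pi.single j 1)) = c • u := by
    by_contra hcon
    push Not at hcon
    exact hnx (THETAX e ha θ hθ1 hθ2 hcon)
  obtain ⟨j, hj⟩ := hj
  obtain ⟨ψ', hψ'0, hψ'1, hψ'2⟩ := EXPERP2 hb w (Pi.single j (1 : F))
  refine ⟨LinearMap.toMatrix' (θ.comp (jw e (Pi.single j 1))), ψ', hψ'0, hψ'1, ?_,
    ISOCOMM e M hM hg θ hθ1 hθ2 (Pi.single j 1) ψ' hψ'1 hψ'2⟩
  rintro ⟨c, hc⟩
  apply hj
  refine ⟨c, fun u => ?_⟩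
  have h1 : (LinearMap.toMatrix' (θ.comp (jw e (Pi.single j 1)))) *ᵥ u = θ (tn e u (Pi.single j 1)) := by
    rw [← Matrix.toLin'_apply, Matrix.toLin'_toMatrix', LinearMap.comp_apply, jw_apply]
  rw [← h1, hc, Matrix.smul_mulVec, Matrix.one_mulVec]

/-- CLAIM1: if `M ≥ HS e` has no doubly pure transvection, its unipotent elements along `V_w` are root
elements -/
theorem CLAIM1 [Fintype F] (ha : 2 ≤ a) (hb : 3 ≤ b) (hex : ¬ (a = 2 ∧ Fintype.card F = 2))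
    (M : Subgroup (GL (Fin n) F)) (hM : HS e ≤ M) (hDP : ¬ DP e M) {w : Fin b → F} (hw : w ≠ 0)
    {g : GL (Fin n) F} (hg : g ∈ M) (hu : UniAt e w g) :
    ∃ ψ : Fin b → F, ψ ⬝ᵥ w = 0 ∧ g = XR e w ψ := by
  by_contra hnx
  obtain ⟨A, ψ, hψ, h, hns, hA⟩ := ISOLATE e (by omega) hb M hM hw hg hu hnx
  exact hDP (ALGAPPLY e ha hb (fun 𝔄 hc A hA hns => ALG ha hex 𝔄 hc A hA hns) M hM hw hψ h A hA hns)

/-- STAR0: an element of `M` stabilising `V_w` is a Kronecker product -/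
theorem STAR0 [Fintype F] (ha : 2 ≤ a) (hb : 3 ≤ b) (hex : ¬ (a = 2 ∧ Fintype.card F = 2))
    (M : Subgroup (GL (Fin n) F)) (hM : HS e ≤ M)
    (hMS : M ≤ Cfsg.Geo.specialLinear (Fin n) F) (hDP : ¬ DP e M) {w : Fin b → F} (hw : w ≠ 0)
    {m : GL (Fin n) F} (hm : m ∈ M) (hmw : gmap m (Vw e w) = Vw e w) : m ∈ Kr e := by
  obtain ⟨α, hα⟩ := STARALPHA e hw m hmw
  have hR : ∀ ψ : Fin b → F, ψ ⬝ᵥ w = 0 → ∃ ψ' : Fin b → F, ψ' ⬝ᵥ w = 0 ∧
      ∀ x : Fin n → F, (α : Matrix (Fin a) (Fin a) F) *ᵥ cps e ψ x =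
        cps e ψ' ((m : Matrix (Fin n) (Fin n) F) *ᵥ x) := by
    intro ψ hψ
    have h1 : m * XR e w ψ * m⁻¹ ∈ M :=
      M.mul_mem (M.mul_mem hm (hM (XR_mem_HS e hψ))) (M.inv_mem hm)
    obtain ⟨ψ', hψ', hc⟩ := CLAIM1 e ha hb hex M hM hDP hw h1 (UNICONJ e hψ m hmw)
    exact ⟨ψ', hψ', TAUREL e hw m α hα hψ hψ' hc⟩
  obtain ⟨B, hBw, hB⟩ := TAUMAT e (by omega) hw m α hR
  have hr := STARLIN e hw m α B hα hBw hB
  have hrSL := hr.mem_SL e
  -- `krg e α B = m * r⁻¹ ∈ SL`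
  have hkSL : krg e α B ∈ Cfsg.Geo.specialLinear (Fin n) F := by
    have h1 : krg e α B = m * ((krg e α B)⁻¹ * m)⁻¹ := by group
    rw [h1]
    exact (Cfsg.Geo.specialLinear (Fin n) F).mul_mem (hMS hm)
      ((Cfsg.Geo.specialLinear (Fin n) F).inv_mem hrSL)
  have hkM : krg e α B ∈ M := hM ⟨krg_mem_Kr e α B, hkSL⟩
  have hrM : (krg e α B)⁻¹ * m ∈ M := M.mul_mem (M.inv_mem hkM) hm
  obtain ⟨ψ, hψ, hrx⟩ := CLAIM1 e ha hb hex M hM hDP hw hrM hr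
  have h2 : m = krg e α B * ((krg e α B)⁻¹ * m) := by group
  rw [h2, hrx]
  exact (Kr e).mul_mem (krg_mem_Kr e α B) (XR_mem_Kr e hψ)

/-- STAR: an element of `M` mapping some `V_w` onto some `V_{w'}` is a Kronecker product -/
theorem STAR [Fintype F] (ha : 2 ≤ a) (hb : 3 ≤ b) (hex : ¬ (a = 2 ∧ Fintype.card F = 2))
    (M : Subgroup (GL (Fin n) F)) (hM : HS e ≤ M)
    (hMS : M ≤ Cfsg.Geo.specialLinear (Fin n) F) (hDP : ¬ DP e M) {w w' : Fin b → F} (hw : w ≠ 0)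
    (hw' : w' ≠ 0) {m : GL (Fin n) F} (hm : m ∈ M) (hmw : gmap m (Vw e w) = Vw e w') :
    m ∈ Kr e := by
  obtain ⟨D, hD1, hD2⟩ := TRANSVEC (by omega : 2 ≤ b) hw' hw
  have hh : krg e 1 D ∈ HS e := krg_one_left_mem_HS e D hD1
  have h1 : gmap (krg e 1 D * m) (Vw e w) = Vw e w := by
    rw [gmap_mul, hmw, GMAPKR, hD2]
  have h2 := STAR0 e ha hb hex M hM hMS hDP hw (M.mul_mem (hM hh) hm) h1
  have h3 : m = (krg e 1 D)⁻¹ * (krg e 1 D * m) := by group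
  rw [h3]
  exact (Kr e).mul_mem ((Kr e).inv_mem hh.1) h2

/-- CLASSIF: if `m x_{w,ψ} m⁻¹` is a Kronecker product then `m V_w` is some `V_{w₁}` -/
theorem CLASSIF (ha : 1 ≤ a) (hab : a < b) (m : GL (Fin n) F) {w ψ : Fin b → F} (hw : w ≠ 0)
    (hψ : ψ ≠ 0) (h : ψ ⬝ᵥ w = 0) (hy : m * XR e w ψ * m⁻¹ ∈ Kr e) :
    ∃ w₁ : Fin b → F, w₁ ≠ 0 ∧ gmap m (Vw e w) = Vw e w₁ := by
  obtain ⟨A, B, hAB⟩ := hy
  have hS : Module.finrank F (gmap m (Vw e w)) = a := by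
    rw [finrank_gmap, finrank_Vw e hw]
  have hsub : ∀ x : Fin n → F,
      ((krg e A B : GL (Fin n) F) : Matrix (Fin n) (Fin n) F) *ᵥ x - x ∈ gmap m (Vw e w) := by
    intro x
    rw [← hAB]
    exact YSUB e m h x
  have hsc := CLASSIFA e hab A B _ hS.le hsub
  have hne : krg e A B ≠ 1 := by
    rw [← hAB]
    intro h1
    apply XRNE e ha hw hψ h
    have h2 : XR e w ψ = m⁻¹ * (m * XR e w ψ * m⁻¹) * m := by group
    rw [h2, h1]
    group
  exact CLASSIFB e A B _ hS hsub hsc hne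

/-- NOTRANS: an overgroup of `HS e` in `SL` without doubly pure transvections is contained in `Kr e` -/
theorem NOTRANS [Fintype F] (ha : 2 ≤ a) (hab : a < b) (hex : ¬ (a = 2 ∧ Fintype.card F = 2))
    (M : Subgroup (GL (Fin n) F)) (hM : HS e ≤ M)
    (hMS : M ≤ Cfsg.Geo.specialLinear (Fin n) F) (hDP : ¬ DP e M) : M ≤ Kr e := by
  have hb : 3 ≤ b := by omega
  by_contra hcon
  obtain ⟨m₀, hm₀, hm₀K⟩ := SetLike.not_le_iff_exists.mp hcon
  -- K1: conjugates of root elements by elements outside `Kr e` stay outside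
  have K1 : ∀ m : GL (Fin n) F, m ∈ M → m ∉ Kr e → ∀ w ψ : Fin b → F, w ≠ 0 → ψ ≠ 0 →
      ψ ⬝ᵥ w = 0 → m * XR e w ψ * m⁻¹ ∈ M ∧ m * XR e w ψ * m⁻¹ ∉ Kr e := by
    intro m hm hmK w ψ hw hψ h
    refine ⟨M.mul_mem (M.mul_mem hm (hM (XR_mem_HS e h))) (M.inv_mem hm), fun hy => ?_⟩
    obtain ⟨w₁, hw₁, hmw⟩ := CLASSIF e (by omega) hab m hw hψ h hy
    exact hmK (STAR e ha hb hex M hM hMS hDP hw hw₁ hm hmw)
  -- K2: the intersection numbers are `< a` outside `Kr e`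
  have K2 : ∀ m : GL (Fin n) F, m ∈ M → m ∉ Kr e → ∀ w w' : Fin b → F, w ≠ 0 → w' ≠ 0 →
      Module.finrank F ↥(gmap m (Vw e w) ⊓ Vw e w') < a := by
    intro m hm hmK w w' hw hw'
    by_contra hge
    push Not at hge
    have h1 : Module.finrank F (gmap m (Vw e w)) = a := by rw [finrank_gmap, finrank_Vw e hw]
    have h2 : Module.finrank F (Vw e w') = a := finrank_Vw e hw'
    have e1 : gmap m (Vw e w) ⊓ Vw e w' = gmap m (Vw e w) :=
      Submodule.eq_of_le_of_finrank_le inf_le_left (by rw [h1]; exact hge)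
    have e2 : gmap m (Vw e w) ⊓ Vw e w' = Vw e w' :=
      Submodule.eq_of_le_of_finrank_le inf_le_right (by rw [h2]; exact hge)
    exact hmK (STAR e ha hb hex M hM hMS hDP hw hw' hm (e1.symm.trans e2))
  -- the induction
  have Q : ∀ k : ℕ, 1 ≤ k → k ≤ a → ∃ m : GL (Fin n) F, m ∈ M ∧ m ∉ Kr e ∧
      ∃ w w' : Fin b → F, w ≠ 0 ∧ w' ≠ 0 ∧ k ≤ Module.finrank F ↥(gmap m (Vw e w) ⊓ Vw e w') := by
    intro k hk1
    induction k, hk1 using Nat.le_induction with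
    | base =>
      intro _
      obtain ⟨w, ψ, w', hw, hψ, hw', h, hfin⟩ := STEPA e (by omega) hab m₀
      obtain ⟨h1, h2⟩ := K1 m₀ hm₀ hm₀K w ψ hw hψ h
      exact ⟨_, h1, h2, w', w', hw', hw', hfin⟩
    | succ k hk1 ih =>
      intro hka
      obtain ⟨m, hm, hmK, w, w', hw, hw', hfin⟩ := ih (by omega)
      have hlt := K2 m hm hmK w w' hw hw'
      obtain ⟨ψ, hψ, h, hfin'⟩ := EXT e hab m hw hw' _ rfl (le_trans hk1 hfin) hlt
      obtain ⟨h1, h2⟩ := K1 m hm hmK w ψ hw hψ h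
      exact ⟨_, h1, h2, w', w', hw', hw', by omega⟩
  obtain ⟨m, hm, hmK, w, w', hw, hw', hfin⟩ := Q a (by omega) le_rfl
  have := K2 m hm hmK w w' hw hw'
  omega

/-- SPREAD: an overgroup of `HS e` containing a doubly pure transvection contains `SL` -/
theorem SPREAD (ha : 2 ≤ a) (hb : 3 ≤ b) (hn : 2 ≤ n) (M : Subgroup (GL (Fin n) F))
    (hM : HS e ≤ M) (hDP : DP e M) : Cfsg.Geo.specialLinear (Fin n) F ≤ M := by
  have hD := DPALL e ha hb M hM hDP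
  have h1 := PASS1 e ha hb M hD
  have h2 := PASS2 e (by omega) (by omega) M h1
  exact GENSL e hn M h1 h2

/-- MAIN: maximality in standard position -/
theorem MAIN [Fintype F] (ha : 2 ≤ a) (hab : a < b) (hex : ¬ (a = 2 ∧ Fintype.card F = 2)) :
    Cfsg.Geo.IsMaximalIn (Cfsg.Geo.specialLinear (Fin n) F) (HS e) := by
  have hb : 3 ≤ b := by omega
  have hn : 2 ≤ n := by
    have hcard := Fintype.card_congr e
    rw [Fintype.card_fin, Fintype.card_prod, Fintype.card_fin, Fintype.card_fin] at hcard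
    rw [hcard]
    nlinarith
  refine ⟨lt_of_le_of_ne inf_le_right ?_, ?_⟩
  · intro heq
    obtain ⟨g, hg, hgK⟩ := PROPER (F := F) e ha (by omega)
    rw [← heq] at hg
    exact hgK hg.1
  · intro M hM hMS
    by_cases hDP : DP e M
    · right
      exact le_antisymm hMS (SPREAD e ha hb hn M hM hDP)
    · left
      exact le_antisymm (le_inf (NOTRANS e ha hab hex M hM hMS hDP) hMS) hM

/-- FINAL: the statement of S5637 -/
theorem FINAL [Fintype F] (ha : 2 ≤ a) (hab : a < b) (hex : ¬ (a = 2 ∧ Fintype.card F = 2))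
    (P : GL (Fin n) F) :
    Cfsg.Geo.IsMaximalIn (Cfsg.Geo.specialLinear (Fin n) F)
      (Cfsg.Geo.tensorProductSubgroup a b e P ⊓ Cfsg.Geo.specialLinear (Fin n) F) :=
  REDUCE e P (MAIN e ha hab hex)

end Cfsg.Agent.S5637P
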